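import Groth.Prelude.Def_GLin
import Groth.Agent.Lib.Comodule.CoactAlg
import Groth.Agent.Lib.OrbitH28.Basic
import Groth.Agent.Lib.Unibr4.Basic
import Groth.Agent.Lib.MultType.Basic
import Mathlib.RingTheory.HopfAlgebra.Convolution
import Mathlib.RingTheory.Spectrum.Prime.Chevalley
import Mathlib.RingTheory.Flat.FaithfullyFlat.Algebra

/-!
# Orbits of unipotent groups on affine schemes are closed
-/

open TensorProduct HopfRep WithConv Groth.Agent.Comodule

universe u

namespace Groth.Agent.UnipOrbit28

set_option linter.unusedSectionVars false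
set_option linter.style.haveILetI false

variable {k : Type u} [Field k] {H : Type u} [CommRing H] [HopfAlgebra k H]
variable {A : Type u} [CommRing A] [Algebra k A] [Comod k H A] [GLin.IsCoactAlg k H A]

section Act

variable {N : Type u} [CommRing N] [Algebra k N]

/-- A point of `Spec A` moved by a point of the group. -/
noncomputable def actP (y : A →ₐ[k] N) (g : WithConv (H →ₐ[k] N)) : A →ₐ[k] N :=
  (Algebra.TensorProduct.lift (R := k) (S := k) y g.ofConv (fun _ _ => Commute.all _ _)).comp (GLin.coactAlgHom k H A)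

lemma actP_apply (y : A →ₐ[k] N) (g : WithConv (H →ₐ[k] N)) (a : A) :
    actP y g a = LinearMap.mul' k N (TensorProduct.map y.toLinearMap g.ofConv.toLinearMap
      (Comod.coact (k := k) (A := H) a)) := by
  show Algebra.TensorProduct.lift (R := k) (S := k) y g.ofConv (fun _ _ => Commute.all _ _) (Comod.coact (k := k) (A := H) a) = _
  generalize Comod.coact (k := k) (A := H) a = z
  induction z with
  | zero => simp
  | tmul r s => simp
  | add p q hp hq => simp only [map_add, hp, hq]

lemma actP_one (y : A →ₐ[k] N) : actP y (1 : WithConv (H →ₐ[k] N)) = y := by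
  ext a
  have h := LinearMap.congr_fun (Comod.counit_comp (k := k) (A := H) (V := A)) a
  rw [LinearMap.comp_apply] at h
  rw [actP_apply]
  have e : ∀ z : A ⊗[k] H, LinearMap.mul' k N (TensorProduct.map y.toLinearMap
      (1 : WithConv (H →ₐ[k] N)).ofConv.toLinearMap z) =
      y (TensorProduct.rid k A ((CoalgebraStruct.counit (R := k) (A := H)).lTensor A z)) := by
    intro z
    induction z with
    | zero => simp
    | tmul r s => simp [AlgHom.convOne_def, Algebra.smul_def, mul_comm]
    | add p q hp hq => simp only [map_add, hp, hq]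
  rw [e, h]
  simp

lemma actP_actP (y : A →ₐ[k] N) (g g' : WithConv (H →ₐ[k] N)) :
    actP (actP y g) g' = actP y (g * g') := by
  ext a
  rw [actP_apply, actP_apply]
  have h := LinearMap.congr_fun (Comod.coassoc (k := k) (A := H) (V := A)) a
  simp only [LinearMap.comp_apply] at h
  let T : A ⊗[k] (H ⊗[k] H) →ₗ[k] N := LinearMap.mul' k N ∘ₗ TensorProduct.map y.toLinearMap
    (LinearMap.mul' k N ∘ₗ TensorProduct.map g.ofConv.toLinearMap g'.ofConv.toLinearMap)
  have e1 : ∀ z : A ⊗[k] H, LinearMap.mul' k N (TensorProduct.map (actP y g).toLinearMap g'.ofConv.toLinearMap z) =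
      T ((TensorProduct.assoc k A H H).toLinearMap ((Comod.coact (k := k) (A := H)).rTensor H z)) := by
    intro z
    induction z with
    | zero => simp
    | tmul r s =>
      simp only [TensorProduct.map_tmul, LinearMap.rTensor_tmul, LinearMap.mul'_apply]
      rw [show (actP y g).toLinearMap r = actP y g r from rfl, actP_apply]
      generalize Comod.coact (k := k) (A := H) r = w
      induction w with
      | zero => simp
      | tmul r' s' => simp [T, mul_assoc]
      | add p q hp hq => simp only [map_add, add_mul, TensorProduct.add_tmul, hp, hq]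
    | add p q hp hq => simp only [map_add, hp, hq]
  have e2 : ∀ z : A ⊗[k] H, LinearMap.mul' k N (TensorProduct.map y.toLinearMap (g * g').ofConv.toLinearMap z) =
      T ((CoalgebraStruct.comul (R := k) (A := H)).lTensor A z) := by
    intro z
    induction z with
    | zero => simp
    | tmul r s =>
      simp only [TensorProduct.map_tmul, LinearMap.lTensor_tmul, LinearMap.mul'_apply, T, LinearMap.comp_apply]
      congr 1
    | add p q hp hq => simp only [map_add, hp, hq]
  rw [e1, e2, h]

lemma actP_algebraMap_comp (x : A →ₐ[k] k) (g : WithConv (H →ₐ[k] N)) :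
    actP ((Algebra.ofId k N).comp x) g = g.ofConv.comp (GLin.orbitHom k H x) := by
  ext a
  rw [actP_apply, AlgHom.comp_apply, orbitHom_apply]
  generalize Comod.coact (k := k) (A := H) a = z
  induction z with
  | zero => simp
  | tmul r s => simp [Algebra.smul_def]
  | add p q hp hq => simp only [map_add, hp, hq]

lemma actP_eq_zero {x : A →ₐ[k] k} {y : A →ₐ[k] N} (hy : ∀ a, GLin.orbitHom k H x a = 0 → y a = 0)
    (g : WithConv (H →ₐ[k] N)) {a : A} (ha : GLin.orbitHom k H x a = 0) : actP y g a = 0 := by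
  obtain ⟨z, hz⟩ := isSubcomod_ker_orbitHom (A := H) x a ha
  rw [actP_apply, ← hz]
  clear hz
  induction z with
  | zero => simp
  | tmul r s => simp [hy r.1 r.2]
  | add p q hp hq => simp only [map_add, hp, hq, add_zero]

/-- On a subalgebra stable under the coaction the moved point only depends on the restriction. -/
lemma actP_congr {S : Subalgebra k A}
    (hS : ∀ a ∈ S, Comod.coact (k := k) (A := H) a ∈
      LinearMap.range ((Subalgebra.toSubmodule S).subtype.rTensor H))
    {y y' : A →ₐ[k] N} (h : ∀ a ∈ S, y a = y' a) (g : WithConv (H →ₐ[k] N)) {a : A} (ha : a ∈ S) :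
    actP y g a = actP y' g a := by
  obtain ⟨z, hz⟩ := hS a ha
  rw [actP_apply, actP_apply, ← hz]
  clear hz
  induction z with
  | zero => simp
  | tmul r s => simp [h r.1 r.2]
  | add p q hp hq => simp only [map_add, hp, hq]

end Act

lemma adjoin_stable {W : Submodule k A} (hW : IsSubcomod (k := k) (A := H) W) :
    ∀ a ∈ Algebra.adjoin k (W : Set A), Comod.coact (k := k) (A := H) a ∈
      LinearMap.range ((Subalgebra.toSubmodule (Algebra.adjoin k (W : Set A))).subtype.rTensor H) := by
  set S := Algebra.adjoin k (W : Set A)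
  let E : Subalgebra k (A ⊗[k] H) := (Algebra.TensorProduct.map S.val (AlgHom.id k H)).range
  have hE : ∀ z ∈ E, z ∈ LinearMap.range ((Subalgebra.toSubmodule S).subtype.rTensor H) := by
    rintro _ ⟨z, rfl⟩
    induction z with
    | zero => simp
    | tmul r s => exact ⟨(⟨r.1, r.2⟩ : Subalgebra.toSubmodule S) ⊗ₜ[k] s, by simp⟩
    | add p q hp hq => rw [map_add]; exact add_mem hp hq
  have : S ≤ E.comap (GLin.coactAlgHom k H A) := Algebra.adjoin_le fun w hw => by
    obtain ⟨z, hz⟩ := hW w hw
    refine SetLike.mem_coe.2 ((Subalgebra.mem_comap _ _ _).2 ?_)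
    rw [GLin.coactAlgHom_apply, ← hz]
    clear hz
    induction z with
    | zero => simp
    | tmul r s => exact ⟨(⟨r.1, Algebra.subset_adjoin r.2⟩ : S) ⊗ₜ[k] s, by simp⟩
    | add p q hp hq => rw [map_add]; exact add_mem hp hq
  exact fun a ha => hE _ (this ha)

/-- The orbit map of a dense point of the orbit closure of `x` kills only what `x`'s orbit map kills. -/
lemma orbitHom_eq_zero_of_unipotent (hU : IsUnipotent k H) {x : A →ₐ[k] k} {K : Type u} [Field K] [Algebra k K]
    {y : A →ₐ[k] K} (hy : ∀ a, GLin.orbitHom k H x a = 0 → y a = 0) {a : A}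
    (ha : Algebra.TensorProduct.map y (AlgHom.id k H) (Comod.coact (k := k) (A := H) a) = 0) :
    GLin.orbitHom k H x a = 0 := by
  set φ := GLin.orbitHom k H x
  let ψ : A →ₗ[k] K ⊗[k] H :=
    (Algebra.TensorProduct.map y (AlgHom.id k H)).toLinearMap ∘ₗ Comod.coact (k := k) (A := H)
  -- the kernel of `ψ` is a subcomodule
  have hψ : ψ = y.toLinearMap.rTensor H ∘ₗ Comod.coact (k := k) (A := H) := by
    refine LinearMap.ext fun b => ?_
    simp only [ψ, LinearMap.comp_apply, AlgHom.toLinearMap_apply]
    generalize Comod.coact (k := k) (A := H) b = z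
    induction z with
    | zero => simp
    | tmul r s => simp
    | add p q hp hq => simp only [map_add, hp, hq]
  have hJ : IsSubcomod (k := k) (A := H) (LinearMap.ker ψ) := by
    intro b hb
    rw [hψ, LinearMap.mem_ker, LinearMap.comp_apply] at hb
    change Comod.coact (k := k) (A := H) b ∈ tens H (LinearMap.ker ψ)
    rw [mem_tens_ker_iff, hψ, LinearMap.rTensor_comp_apply]
    have h := LinearMap.congr_fun (Comod.coassoc (k := k) (A := H) (V := A)) b
    simp only [LinearMap.comp_apply] at h
    apply (TensorProduct.assoc k K H H).injective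
    rw [map_zero]
    have e : ∀ z : (A ⊗[k] H) ⊗[k] H, TensorProduct.assoc k K H H ((y.toLinearMap.rTensor H).rTensor H z) =
        y.toLinearMap.rTensor (H ⊗[k] H) (TensorProduct.assoc k A H H z) := by
      intro z
      induction z with
      | zero => simp
      | tmul r s =>
        induction r with
        | zero => simp
        | tmul r s' => simp
        | add p q hp hq => simp only [map_add, TensorProduct.add_tmul, hp, hq]
      | add p q hp hq => simp only [map_add, hp, hq]
    rw [e]
    rw [show TensorProduct.assoc k A H H ((Comod.coact (k := k) (A := H)).rTensor H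
      (Comod.coact (k := k) (A := H) b)) = _ from h]
    rw [← LinearMap.comp_apply, LinearMap.rTensor_comp_lTensor, ← LinearMap.lTensor_comp_rTensor,
      LinearMap.comp_apply, hb, map_zero]
  by_contra hne
  have haJ : a ∈ LinearMap.ker ψ := ha
  have hM := isSubcomod_map (isComodHom_orbitHom (A := H) x) hJ
  obtain ⟨Nf, hNf, hfin, hmem⟩ : ∃ Nf : Submodule k H, IsSubcomod (k := k) (A := H) Nf ∧
      Module.Finite k Nf ∧ φ a ∈ Nf := by
    exact exists_finite_subcomod (k := k) (A := H) (φ a)
  haveI := hfin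
  let M := Nf ⊓ (LinearMap.ker ψ).map φ.toLinearMap
  have hMs : IsSubcomod (k := k) (A := H) M := isSubcomod_inf hNf hM
  haveI : Module.Finite k M :=
    Module.Finite.of_injective (Submodule.inclusion inf_le_left) (Submodule.inclusion_injective _)
  haveI : Nontrivial M := ⟨⟨⟨φ a, hmem, a, haJ, rfl⟩, 0, fun h => hne (congrArg Subtype.val h)⟩⟩
  letI := subComod M hMs
  obtain ⟨v, hv, hv0⟩ := Submodule.exists_mem_ne_zero_of_ne_bot (hU M inferInstance inferInstance)
  have hv' : CoalgebraStruct.comul (R := k) (v : H) = (v : H) ⊗ₜ[k] (1 : H) := by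
    have e := rTensor_coactRestrict (A := H) M hMs v
    change coactRestrict M hMs v = v ⊗ₜ[k] (1 : H) at hv
    rw [hv] at e
    exact e.symm.trans (by simp)
  have hc : (v : H) = algebraMap k H (Coalgebra.counit (R := k) (v : H)) := by
    have e := congrArg ((CoalgebraStruct.counit (R := k) (A := H)).rTensor H) hv'
    rw [← LinearMap.comp_apply, Coalgebra.rTensor_counit_comp_comul] at e
    simp only [TensorProduct.mk_apply, LinearMap.rTensor_tmul] at e
    have := congrArg (TensorProduct.lid k H) e
    simpa [Algebra.algebraMap_eq_smul_one] using this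
  set c := Coalgebra.counit (R := k) (v : H)
  obtain ⟨b, hb, hbv⟩ := v.2.2
  have hbc : φ (b - algebraMap k A c) = 0 := by
    rw [map_sub, show φ b = (v : H) from hbv, AlgHom.commutes, ← hc, sub_self]
  have hyb : y b = algebraMap k K c := by
    have := hy _ hbc
    rwa [map_sub, AlgHom.commutes, sub_eq_zero] at this
  have hyb0 : y b = 0 := by
    have hb' : y.toLinearMap.rTensor H (Comod.coact (k := k) (A := H) b) = 0 := by
      rw [← LinearMap.comp_apply, ← hψ]; exact hb
    have h := LinearMap.congr_fun (Comod.counit_comp (k := k) (A := H) (V := A)) b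
    rw [LinearMap.comp_apply] at h
    have e : y.toLinearMap.rTensor k ((CoalgebraStruct.counit (R := k) (A := H)).lTensor A
        (Comod.coact (k := k) (A := H) b)) = 0 := by
      rw [← LinearMap.comp_apply, LinearMap.rTensor_comp_lTensor, ← LinearMap.lTensor_comp_rTensor,
        LinearMap.comp_apply, hb', map_zero]
    rw [h] at e
    simpa using congrArg (TensorProduct.rid k K) e
  refine hv0 (Subtype.ext ?_)
  have : c = 0 := (algebraMap k K).injective (by rw [← hyb, hyb0, map_zero])
  rw [ZeroMemClass.coe_zero, hc, this, map_zero]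

/-- A finitely generated subalgebra inside a finitely generated subalgebra over which `H` is faithfully flat:
the image of `Spec H` contains a dense open piece. -/
lemma exists_open_piece (B : Subalgebra k H) (hB : B.FG) [Module.FaithfullyFlat B H]
    {S : Type u} [CommRing S] [Algebra k S] [Algebra.FiniteType k S] (φ : S →ₐ[k] H) (hφ : ∀ s, φ s ∈ B) :
    ∃ f : S, ¬ IsNilpotent (φ f) ∧ ∀ p : PrimeSpectrum S, RingHom.ker φ ≤ p.asIdeal → f ∉ p.asIdeal →
      p ∈ Set.range (PrimeSpectrum.comap φ.toRingHom) := by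
  classical
  haveI : Nontrivial H := OrbitH28.nontrivial_hopf k H
  haveI : IsNoetherianRing S := Algebra.FiniteType.isNoetherianRing k S
  haveI : Algebra.FiniteType k B := (Subalgebra.fg_iff_finiteType B).1 hB
  let φB : S →ₐ[k] B := φ.codRestrict B hφ
  have hfp : φB.toRingHom.FinitePresentation := by
    refine RingHom.FinitePresentation.of_finiteType.1 ?_
    letI : Algebra S B := φB.toRingHom.toAlgebra
    haveI : IsScalarTower k S B := IsScalarTower.of_algHom φB
    exact RingHom.finiteType_algebraMap.2 (Algebra.FiniteType.of_restrictScalars_finiteType k S B)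
  have hker : RingHom.ker φB = RingHom.ker φ := by
    ext s
    simp [φB, RingHom.mem_ker, Subtype.ext_iff]
  have hne : RingHom.ker φ ≠ ⊤ := RingHom.ker_ne_top _
  obtain ⟨P, hP⟩ := Ideal.nonempty_minimalPrimes hne
  haveI := hP.1.1
  obtain ⟨U, hU, hηU, hUC⟩ := OrbitH28.exists_open_of_isConstructible
    (PrimeSpectrum.isConstructible_range_comap hfp) ⟨P, hP.1.1⟩
  obtain ⟨Q, hQ, -, hQP⟩ := Ideal.exists_comap_eq_of_mem_minimalPrimes φB.toRingHom (I := (⊥ : Ideal B)) P
    (by rw [← RingHom.ker_eq_comap_bot]; rw [← hker] at hP; exact hP)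
  replace hUC := hUC.resolve_right fun h => h _ hηU specializes_rfl ⟨⟨Q, hQ⟩, PrimeSpectrum.ext hQP⟩
  obtain ⟨_, ⟨_, ⟨D0, rfl⟩, rfl⟩, hD0, hD0U⟩ :=
    PrimeSpectrum.isBasis_basic_opens.exists_subset_of_mem_open hηU hU
  have hfin := Ideal.finite_minimalPrimes_of_isNoetherianRing S (RingHom.ker φ)
  have he : ∀ Q' ∈ (RingHom.ker φ).minimalPrimes, Q' ≠ P → ∃ e ∈ Q', e ∉ P := fun Q' hQ' hne =>
    SetLike.not_le_iff_exists.1 fun hle => hne (le_antisymm hle (hP.2 hQ'.1 hle))
  choose! e heQ heP using he
  let T := hfin.toFinset.erase P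
  have hf : D0 * ∏ Q' ∈ T, e Q' ∉ P := fun h => by
    rcases hP.1.1.mem_or_mem h with h | h
    · exact hD0 h
    · obtain ⟨Q', hQ', hm⟩ := Ideal.IsPrime.prod_mem_iff.1 h
      exact heP _ (hfin.mem_toFinset.1 (Finset.mem_of_mem_erase hQ')) (Finset.ne_of_mem_erase hQ') hm
  refine ⟨D0 * ∏ Q' ∈ T, e Q', fun hnil => ?_, fun p hp hfp' => ?_⟩
  · obtain ⟨n, hn⟩ := hnil
    exact hf (hP.1.1.mem_of_pow_mem n (hP.1.2 (by rw [RingHom.mem_ker, map_pow, hn])))
  · obtain ⟨Q', hQ', hQp⟩ := Ideal.exists_minimalPrimes_le hp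
    have hPp : P ≤ p.asIdeal := by
      by_cases h : Q' = P
      · exact h ▸ hQp
      · refine absurd ?_ hfp'
        exact Ideal.mul_mem_left _ _ (Ideal.prod_mem p.asIdeal
          (Finset.mem_erase.2 ⟨h, hfin.mem_toFinset.2 hQ'⟩) (hQp (heQ _ hQ' h)))
    obtain ⟨q, hq⟩ := hUC p (hD0U fun h => hfp' (Ideal.mul_mem_right _ _ h))
      ((PrimeSpectrum.le_iff_specializes _ _).1 hPp)
    obtain ⟨r, hr⟩ := PrimeSpectrum.comap_surjective_of_faithfullyFlat (A := B) (B := H) q
    refine ⟨r, ?_⟩
    rw [← hq, ← hr]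
    rfl

variable (hU : IsUnipotent k H) (B : ℕ → Subalgebra k H) (hmono : Monotone B) (hcov : ∀ h : H, ∃ i, h ∈ B i)
  (hfg : ∀ i, (B i).FG) (hfree : ∀ i, Module.Free (B i) H)

include hU hmono hcov hfg hfree

theorem isClosedOrbit (x : A →ₐ[k] k) : GLin.IsClosedOrbit k H x := by
  classical
  haveI : Nontrivial H := OrbitH28.nontrivial_hopf k H
  set φ := GLin.orbitHom k H x with hφdef
  suffices h : Set.range (PrimeSpectrum.comap φ.toRingHom) = PrimeSpectrum.zeroLocus (RingHom.ker φ) by
    rw [GLin.IsClosedOrbit, ← hφdef, h]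
    exact PrimeSpectrum.isClosed_zeroLocus _
  refine Set.Subset.antisymm ?_ fun q hq => ?_
  · rintro _ ⟨P, rfl⟩ a ha
    show φ a ∈ P.asIdeal
    rw [show φ a = 0 from ha]
    exact zero_mem _
  rw [PrimeSpectrum.mem_zeroLocus, SetLike.coe_subset_coe] at hq
  suffices h : (q.asIdeal.map φ.toRingHom).comap φ.toRingHom ≤ q.asIdeal by
    obtain ⟨P, hP, hPq⟩ := (Ideal.comap_map_eq_self_iff_of_isPrime q.asIdeal).1
      (le_antisymm h Ideal.le_comap_map)
    exact ⟨⟨P, hP⟩, PrimeSpectrum.ext hPq⟩
  intro f hf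
  -- reduce to a finitely generated stable subalgebra
  rw [Ideal.mem_comap, Ideal.map] at hf
  obtain ⟨s, hsq, hs⟩ := Submodule.mem_span_finite_of_mem_span hf
  choose a haq haφ using fun h : s => hsq h.2
  have hW : ∀ b : A, ∃ W : Submodule k A, IsSubcomod (k := k) (A := H) W ∧ Module.Finite k W ∧ b ∈ W := by
    exact fun b => exists_finite_subcomod (k := k) (A := H) b
  choose Wf hWs hWfin hWmem using hW
  let W : Submodule k A := Wf f ⊔ ⨆ h : s, Wf (a h)
  have hWs' : IsSubcomod (k := k) (A := H) W :=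
    isSubcomod_sup (hWs f) (isSubcomod_iSup _ fun h => hWs _)
  haveI : ∀ b, Module.Finite k (Wf b) := hWfin
  obtain ⟨G, hG⟩ : W.FG :=
    (Module.Finite.iff_fg (N := W)).1 (inferInstanceAs (Module.Finite k ↥(Wf f ⊔ ⨆ h : s, Wf (a h))))
  set S := Algebra.adjoin k (W : Set A) with hSdef
  have hS : Algebra.adjoin k (G : Set A) = S := by rw [hSdef, ← hG, Algebra.adjoin_span]
  have hS' := adjoin_stable hWs'
  haveI : Algebra.FiniteType k S := (Subalgebra.fg_iff_finiteType S).1 ⟨G, hS⟩
  have hfS : f ∈ S := Algebra.subset_adjoin (Submodule.mem_sup_left (hWmem f))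
  have haS : ∀ h : s, a h ∈ S := fun h =>
    Algebra.subset_adjoin (Submodule.mem_sup_right (Submodule.mem_iSup_of_mem h (hWmem _)))
  -- a stage containing the image
  choose iG hiG using fun g : A => hcov (φ g)
  have hstage : ∀ g ∈ G, φ g ∈ B (G.sup iG) := fun g hg => hmono (Finset.le_sup hg) (hiG g)
  have hφS : ∀ b : S, φ.comp S.val b ∈ B (G.sup iG) := fun b => by
    have : S ≤ (B (G.sup iG)).comap φ := by rw [← hS]; exact Algebra.adjoin_le fun g hg => hstage g hg
    exact this b.2
  haveI := hfree (G.sup iG)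
  obtain ⟨d, hd, hopen⟩ := exists_open_piece (B (G.sup iG)) (hfg _) (φ.comp S.val) hφS
  -- the point of `q`
  let K := q.asIdeal.ResidueField
  let y : A →ₐ[k] K := IsScalarTower.toAlgHom k A K
  have hy0 : ∀ b, y b = 0 ↔ b ∈ q.asIdeal := fun b => Ideal.algebraMap_residueField_eq_zero
  have hy : ∀ b, φ b = 0 → y b = 0 := fun b hb => (hy0 b).2 (hq hb)
  let ψ : A →ₐ[k] K ⊗[k] H :=
    (Algebra.TensorProduct.map y (AlgHom.id k H)).comp (GLin.coactAlgHom k H A)
  have hψd : ¬ IsNilpotent (ψ d) := fun ⟨n, hn⟩ => hd ⟨n, by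
    rw [← map_pow] at hn ⊢
    exact orbitHom_eq_zero_of_unipotent hU hy hn⟩
  obtain ⟨P, hP, hdP⟩ : ∃ P : Ideal (K ⊗[k] H), P.IsPrime ∧ ψ d ∉ P := by
    rw [← mem_nilradical, nilradical_eq_sInf, Ideal.mem_sInf] at hψd
    push Not at hψd
    exact hψd
  haveI := hP
  let L := P.ResidueField
  let π : K ⊗[k] H →ₐ[k] L := IsScalarTower.toAlgHom k (K ⊗[k] H) L
  let yL : A →ₐ[k] L := (π.comp Algebra.TensorProduct.includeLeft).comp y
  let g : WithConv (H →ₐ[k] L) := toConv (π.comp Algebra.TensorProduct.includeRight)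
  have hz : ∀ b, actP yL g b = π (ψ b) := by
    intro b
    rw [actP_apply]
    show _ = π (Algebra.TensorProduct.map y (AlgHom.id k H) (Comod.coact (k := k) (A := H) b))
    generalize Comod.coact (k := k) (A := H) b = w
    induction w with
    | zero => simp
    | tmul r s => simp [yL, g, ← map_mul]
    | add p q hp hq => simp only [map_add, hp, hq]
  let zS : S →ₐ[k] L := (actP yL g).comp S.val
  have hzker : RingHom.ker (φ.comp S.val) ≤ RingHom.ker zS := fun b hb =>
    actP_eq_zero (x := x) (fun c hc => by simp [yL, hy c hc]) g hb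
  have hzd : d ∉ RingHom.ker zS := fun h => hdP (Ideal.algebraMap_residueField_eq_zero.1 (by
    have : actP yL g (d : A) = 0 := h
    rw [hz] at this
    exact this))
  obtain ⟨r, hr⟩ := hopen ⟨RingHom.ker zS, RingHom.ker_isPrime _⟩ hzker hzd
  -- common field
  letI : Algebra S L := zS.toRingHom.toAlgebra
  letI : Algebra S H := (φ.comp S.val).toRingHom.toAlgebra
  obtain ⟨Ω, _, aΩ, bΩ, haker, hbker, hab⟩ := Unibr4.exists_common_field (R := S) (⊥ : Ideal L) r.asIdeal (by
    have := congrArg PrimeSpectrum.asIdeal hr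
    rw [Ideal.under_def, Ideal.under_def]
    exact (RingHom.ker_eq_comap_bot _).symm.trans this.symm)
  letI : Algebra k Ω := (aΩ.comp (algebraMap k L)).toAlgebra
  let aA : L →ₐ[k] Ω := { aΩ with commutes' := fun c => rfl }
  have habk : ∀ c : k, bΩ (algebraMap k H c) = algebraMap k Ω c := fun c => by
    have := RingHom.congr_fun hab (algebraMap k S c)
    change aΩ (zS (algebraMap k S c)) = bΩ (φ.comp S.val (algebraMap k S c)) at this
    rw [AlgHom.commutes, AlgHom.commutes] at this
    exact this.symm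
  let bA : H →ₐ[k] Ω := { bΩ with commutes' := habk }
  let g' : WithConv (H →ₐ[k] Ω) := toConv (aA.comp g.ofConv)
  have hcomp : ∀ b, actP (aA.comp yL) g' b = aA (actP yL g b) := by
    intro b
    rw [actP_apply, actP_apply]
    generalize Comod.coact (k := k) (A := H) b = w
    induction w with
    | zero => simp
    | tmul r s => simp [g']
    | add p q hp hq => simp only [map_add, hp, hq]
  have hagree : ∀ b ∈ S, actP (aA.comp yL) g' b = actP ((Algebra.ofId k Ω).comp x) (toConv bA) b := by
    intro b hb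
    rw [hcomp, actP_algebraMap_comp]
    exact RingHom.congr_fun hab ⟨b, hb⟩
  have hfinal : ∀ b ∈ S, (aA.comp yL) b = (toConv bA * g'⁻¹).ofConv (φ b) := by
    intro b hb
    have h1 := actP_congr hS' hagree g'⁻¹ hb
    rw [actP_actP, actP_actP, mul_inv_cancel, actP_one, actP_algebraMap_comp] at h1
    exact h1
  have hsub : (s : Set H) ⊆ RingHom.ker (toConv bA * g'⁻¹).ofConv := by
    intro h hh
    rw [SetLike.mem_coe, RingHom.mem_ker, show h = φ (a ⟨h, hh⟩) from (haφ ⟨h, hh⟩).symm]
    show (toConv bA * g'⁻¹).ofConv (φ (a ⟨h, hh⟩)) = 0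
    rw [← hfinal _ (haS _)]
    simp [yL, (hy0 _).2 (haq ⟨h, hh⟩)]
  have : (toConv bA * g'⁻¹).ofConv (φ f) = 0 := RingHom.mem_ker.1 (Submodule.span_le.2 hsub hs)
  rw [← hfinal f hfS] at this
  exact (hy0 f).1 ((aA.comp (π.comp Algebra.TensorProduct.includeLeft)).toRingHom.injective
    (this.trans (map_zero _).symm))

end Groth.Agent.UnipOrbit28
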